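import Mathlib.CategoryTheory.Abelian.Refinements
import Mathlib.Algebra.Homology.ShortComplex.ShortExact
import Mathlib.Tactic

/-!
# Presentations by objects which only lift up to refinement

`S` is a class of objects in an abelian category such that maps out of a member of `S` lift along epimorphisms
after composing with an epimorphism from another member whose kernel is covered by a member of `S`.  The objects
presented by members of `S` are then closed under cokernels and extensions, and under kernels as soon as the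
kernels of maps between members of `S` are presented.
-/

set_option linter.style.haveILetI false

universe v u

open CategoryTheory CategoryTheory.Limits

namespace Groth.Agent.QcFree

variable {A : Type u} [Category.{v} A] [Abelian A]

/-- Two composable maps form a right exact sequence. -/
structure RightExact {Q P X : A} (ψ : Q ⟶ P) (π : P ⟶ X) : Prop where
  w : ψ ≫ π = 0
  desc : ∀ {N : A} (c : P ⟶ N), ψ ≫ c = 0 → ∃ b : X ⟶ N, π ≫ b = c
  epi : Epi π

namespace RightExact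

variable {Q P X : A} {ψ : Q ⟶ P} {π : P ⟶ X}

theorem of_cokernel (ψ : Q ⟶ P) : RightExact ψ (cokernel.π ψ) :=
  ⟨cokernel.condition ψ, fun c hc => ⟨cokernel.desc ψ c hc, cokernel.π_desc _ _ _⟩, inferInstance⟩

theorem cancel (h : RightExact ψ π) {N : A} {a b : X ⟶ N} (e : π ≫ a = π ≫ b) : a = b :=
  haveI := h.epi
  (cancel_epi π).1 e

theorem of_iso {Y : A} (h : RightExact ψ π) (e : X ≅ Y) : RightExact ψ (π ≫ e.hom) where
  w := by rw [← Category.assoc, h.w, zero_comp]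
  desc c hc := by
    obtain ⟨b, hb⟩ := h.desc c hc
    exact ⟨e.inv ≫ b, by simp [hb]⟩
  epi := by haveI := h.epi; infer_instance

theorem nonempty_iso (h : RightExact ψ π) : Nonempty (X ≅ cokernel ψ) := by
  obtain ⟨b, hb⟩ := h.desc (cokernel.π ψ) (cokernel.condition ψ)
  exact ⟨⟨b, cokernel.desc ψ π h.w, h.cancel (by rw [← Category.assoc, hb, cokernel.π_desc, Category.comp_id]),
    coequalizer.hom_ext (by simp [hb])⟩⟩

/-- Changing the source along an epimorphism. -/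
theorem precomp (h : RightExact ψ π) {Q' : A} (e : Q' ⟶ Q) [Epi e] : RightExact (e ≫ ψ) π where
  w := by rw [Category.assoc, h.w, comp_zero]
  desc c hc := h.desc c ((cancel_epi e).1 (by rw [← Category.assoc, hc, comp_zero]))
  epi := h.epi

/-- Changing the middle term along an epimorphism with presented kernel. -/
theorem refine_middle (h : RightExact ψ π) {P' K Q' : A} {χ : K ⟶ P'} {e : P' ⟶ P} (he : RightExact χ e)
    (d : Q' ⟶ Q) [Epi d] (l : Q' ⟶ P') (hl : l ≫ e = d ≫ ψ) :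
    RightExact (biprod.desc χ l) (e ≫ π) where
  w := by
    apply biprod.hom_ext'
    · simp [reassoc_of% he.w]
    · simp [reassoc_of% hl, h.w]
  desc c hc := by
    have h1 : χ ≫ c = 0 := by simpa using biprod.inl ≫= hc
    have h2 : l ≫ c = 0 := by simpa using biprod.inr ≫= hc
    obtain ⟨b, hb⟩ := he.desc c h1
    obtain ⟨b', hb'⟩ := h.desc b ((cancel_epi d).1 (by
      rw [← Category.assoc, ← hl, Category.assoc, hb, h2, comp_zero]))
    exact ⟨b', by rw [Category.assoc, hb', hb]⟩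
  epi := by haveI := he.epi; haveI := h.epi; infer_instance

end RightExact

/-- The hypotheses on the class `S`. -/
structure Lifts (S : A → Prop) : Prop where
  zero : ∀ {X : A}, IsZero X → S X
  biprod : ∀ {X Y : A}, S X → S Y → S (X ⊞ Y)
  lift : ∀ {P M N : A}, S P → ∀ (g : M ⟶ N) [Epi g] (f : P ⟶ N),
    ∃ (P' : A) (_ : S P') (e : P' ⟶ P) (_ : Epi e) (l : P' ⟶ M), l ≫ g = e ≫ f

/-- Lifting with presented kernels. -/
def LiftsPlus (S : A → Prop) : Prop :=
  ∀ {P M N : A}, S P → ∀ (g : M ⟶ N) [Epi g] (f : P ⟶ N),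
    ∃ (P' K : A) (_ : S P') (_ : S K) (χ : K ⟶ P') (e : P' ⟶ P) (l : P' ⟶ M), RightExact χ e ∧ l ≫ g = e ≫ f

/-- Presented by members of `S`. -/
def Pres (S : A → Prop) (X : A) : Prop :=
  ∃ (Q P : A) (_ : S Q) (_ : S P) (ψ : Q ⟶ P) (π : P ⟶ X), RightExact ψ π

variable {S : A → Prop}

theorem pres_of_iso {X Y : A} (h : Pres S X) (e : X ≅ Y) : Pres S Y := by
  obtain ⟨Q, P, hQ, hP, ψ, π, h⟩ := h
  exact ⟨Q, P, hQ, hP, ψ, π ≫ e.hom, h.of_iso e⟩

theorem pres_of_mem (hS : Lifts S) {X : A} (hX : S X) : Pres S X := by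
  obtain ⟨Z, hZ⟩ := HasZeroObject.zero (C := A)
  exact ⟨Z, X, hS.zero hZ, hX, 0, 𝟙 X, ⟨zero_comp, fun c _ => ⟨c, Category.id_comp c⟩, inferInstance⟩⟩

/-- Cokernels of maps between presented objects. -/
theorem pres_cokernel (hS : Lifts S) {F G : A} (α : F ⟶ G) {P_F : A} (hPF : S P_F) (σ : P_F ⟶ F) [Epi σ]
    (hG : Pres S G) : Pres S (cokernel α) := by
  obtain ⟨Q, P, hQ, hP, ψ, π, h⟩ := hG
  haveI := h.epi
  obtain ⟨P', hP', e, _, l, hl⟩ := hS.lift hPF π (σ ≫ α)
  refine ⟨Q ⊞ P', P, hS.biprod hQ hP', hP, biprod.desc ψ l, π ≫ cokernel.π α, ?_, ?_, inferInstance⟩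
  · apply biprod.hom_ext'
    · simp [reassoc_of% h.w]
    · simp [reassoc_of% hl]
  · intro N c hc
    have h1 : ψ ≫ c = 0 := by simpa using biprod.inl ≫= hc
    have h2 : l ≫ c = 0 := by simpa using biprod.inr ≫= hc
    obtain ⟨b, rfl⟩ := h.desc c h1
    refine ⟨cokernel.desc α b ((cancel_epi σ).1 ((cancel_epi e).1 ?_)), by simp⟩
    rw [comp_zero, comp_zero, ← Category.assoc σ, ← Category.assoc, ← hl, Category.assoc]
    exact h2

theorem pres_cokernel' (hS : Lifts S) {F G : A} (α : F ⟶ G) (hF : Pres S F) (hG : Pres S G) :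
    Pres S (cokernel α) := by
  obtain ⟨Q, P, -, hP, ψ, σ, h⟩ := hF
  haveI := h.epi
  exact pres_cokernel hS α hP σ hG

/-- Extensions of presented objects. -/
theorem pres_extension (hS : Lifts S) (hS' : LiftsPlus S) {E : ShortComplex A} (hE : E.ShortExact)
    (h₁ : Pres S E.X₁) (h₃ : Pres S E.X₃) : Pres S E.X₂ := by
  obtain ⟨Q₁, P₁, hQ₁, hP₁, ψ₁, π₁, r₁⟩ := h₁
  obtain ⟨Q₃, P₃, hQ₃, hP₃, ψ₃, π₃, r₃⟩ := h₃
  haveI := r₁.epi
  haveI := r₃.epi
  haveI := hE.mono_f
  haveI := hE.epi_g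
  obtain ⟨P, K, hP, hK, χ, e, L, he, hL⟩ := hS' hP₃ E.g π₃
  haveI := he.epi
  obtain ⟨Q₃', hQ₃', d, _, l₀, hl₀⟩ := hS.lift hQ₃ e ψ₃
  have hr := r₃.refine_middle he d l₀ hl₀
  set ρ := biprod.desc χ l₀ with hρdef
  have hρ : (ρ ≫ L) ≫ E.g = 0 := by rw [Category.assoc, hL]; exact hr.w
  obtain ⟨K', hK', d', _, l, hl⟩ := hS.lift (hS.biprod hK hQ₃') π₁ (hE.exact.lift (ρ ≫ L) hρ)
  let ψ : Q₁ ⊞ K' ⟶ P₁ ⊞ P := biprod.desc (ψ₁ ≫ biprod.inl) (d' ≫ ρ ≫ biprod.inr - l ≫ biprod.inl)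
  let π : P₁ ⊞ P ⟶ E.X₂ := biprod.desc (π₁ ≫ E.f) L
  have hw : ψ ≫ π = 0 := by
    apply biprod.hom_ext'
    · simp [ψ, π, reassoc_of% r₁.w]
    · simp [ψ, π, reassoc_of% hl]
  let φ : cokernel ψ ⟶ E.X₂ := cokernel.desc ψ π hw
  obtain ⟨a, ha⟩ := r₁.desc (biprod.inl ≫ cokernel.π ψ) (by
    rw [← Category.assoc, show ψ₁ ≫ biprod.inl = biprod.inl ≫ ψ from (biprod.inl_desc _ _).symm, Category.assoc,
      cokernel.condition, comp_zero])
  have haφ : a ≫ φ = E.f := r₁.cancel (by rw [← Category.assoc, ha]; simp [φ, π])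
  have hbg : (π₁ ≫ E.f) ≫ E.g = 0 := by rw [Category.assoc, E.zero, comp_zero]
  haveI : Mono a := mono_of_mono_fac haφ
  haveI hepi : Epi φ := by
    refine Preadditive.epi_of_cancel_zero φ fun {N} t ht => ?_
    have h0 : π ≫ t = 0 := by rw [← cokernel.π_desc ψ π hw, Category.assoc, ht, comp_zero]
    have h1 : E.f ≫ t = 0 := r₁.cancel (by
      have := biprod.inl ≫= h0
      simpa [π] using this)
    obtain ⟨s, rfl⟩ : ∃ s, E.g ≫ s = t := ⟨hE.exact.desc t h1, hE.exact.g_desc t h1⟩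
    have h2 : L ≫ E.g ≫ s = 0 := by simpa [π] using biprod.inr ≫= h0
    rw [← Category.assoc, hL, Category.assoc] at h2
    rw [(cancel_epi π₃).1 ((cancel_epi e).1 (by rw [h2, comp_zero, comp_zero]) : π₃ ≫ s = π₃ ≫ 0), comp_zero]
  haveI hmono : Mono φ := by
    let q := cokernel.π a
    have hq : biprod.inr ≫ cokernel.π ψ ≫ q = biprod.inr ≫ cokernel.π ψ ≫ q := rfl
    have hk : ρ ≫ biprod.inr ≫ cokernel.π ψ ≫ q = 0 := by
      refine (cancel_epi d').1 ?_
      have h1 : (d' ≫ ρ ≫ biprod.inr) ≫ cokernel.π ψ = (l ≫ biprod.inl) ≫ cokernel.π ψ := by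
        rw [← sub_eq_zero, ← Preadditive.sub_comp, show d' ≫ ρ ≫ biprod.inr - l ≫ biprod.inl = biprod.inr ≫ ψ from
          (biprod.inr_desc _ _).symm, Category.assoc, cokernel.condition, comp_zero]
      simp only [Category.assoc] at h1
      rw [comp_zero, reassoc_of% h1, ← reassoc_of% ha]
      simp [q]
    obtain ⟨s, hs⟩ := hr.desc _ hk
    have hinl : biprod.inl ≫ cokernel.π ψ ≫ q = 0 := by rw [← reassoc_of% ha]; simp [q]
    have hfac : φ ≫ E.g ≫ s = q := by
      refine coequalizer.hom_ext ?_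
      apply biprod.hom_ext'
      · simp only [φ]
        rw [cokernel.π_desc_assoc, hinl]
        simp [π, reassoc_of% E.zero]
      · simp only [φ]
        rw [cokernel.π_desc_assoc, ← hs]
        simp [π, reassoc_of% hL]
    refine Preadditive.mono_of_cancel_zero φ fun {T} t ht => ?_
    have h3 : t ≫ q = 0 := by rw [← hfac, ← Category.assoc, ht, zero_comp]
    have hex : (ShortComplex.mk a q (cokernel.condition a)).Exact :=
      ShortComplex.exact_of_g_is_cokernel _ (cokernelIsCokernel a)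
    rw [← hex.lift_f t h3] at ht ⊢
    rw [Category.assoc, haφ] at ht
    rw [(cancel_mono E.f).1 (ht.trans zero_comp.symm), zero_comp]
  haveI : IsIso φ := isIso_of_mono_of_epi φ
  exact pres_of_iso ⟨_, _, hS.biprod hQ₁ hK', hS.biprod hP₁ hP, ψ, cokernel.π ψ, RightExact.of_cokernel ψ⟩
    (asIso φ)

/-- Kernels of maps between presented objects. -/
theorem pres_kernel (hS : Lifts S) (hS' : LiftsPlus S) (hker : ∀ {P P' : A}, S P → S P' → ∀ φ : P ⟶ P', Pres S (kernel φ))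
    {F G : A} (α : F ⟶ G) (hF : Pres S F) (hG : Pres S G) : Pres S (kernel α) := by
  obtain ⟨Q₁, P₁, hQ₁, hP₁, ψ₁, π₁, r₁⟩ := hF
  obtain ⟨Q₂, P₂, hQ₂, hP₂, ψ₂, π₂, r₂⟩ := hG
  haveI := r₁.epi
  haveI := r₂.epi
  obtain ⟨P, K, hP, hK, χ, e, L, he, hL⟩ := hS' hP₁ π₂ (π₁ ≫ α)
  haveI := he.epi
  obtain ⟨Q₁', hQ₁', d, _, l₀, hl₀⟩ := hS.lift hQ₁ e ψ₁
  have hr := r₁.refine_middle he d l₀ hl₀
  set ρ := biprod.desc χ l₀ with hρdef
  set σ := e ≫ π₁ with hσdef
  haveI : Epi σ := hr.epi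
  let φ : P ⊞ Q₂ ⟶ P₂ := biprod.desc L ψ₂
  let p : kernel φ ⟶ kernel α := kernel.lift α (kernel.ι φ ≫ biprod.fst ≫ σ) (by
    have h := kernel.condition φ =≫ π₂
    have hd : φ ≫ π₂ = biprod.fst ≫ σ ≫ α := by
      apply biprod.hom_ext' <;> simp [φ, σ, hL, r₂.w]
    rw [zero_comp, Category.assoc, hd] at h
    simpa using h)
  -- relations
  have hex₂ : (ShortComplex.mk ψ₂ π₂ r₂.w).Exact :=
    ShortComplex.exact_of_g_is_cokernel _ (CokernelCofork.IsColimit.ofπ _ r₂.w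
      (fun c hc => (r₂.desc c hc).choose) (fun c hc => (r₂.desc c hc).choose_spec)
      (fun c hc b hb => r₂.cancel (hb.trans (r₂.desc c hc).choose_spec.symm)))
  have hexσ : (ShortComplex.mk ρ σ hr.w).Exact :=
    ShortComplex.exact_of_g_is_cokernel _ (CokernelCofork.IsColimit.ofπ _ hr.w
      (fun c hc => (hr.desc c hc).choose) (fun c hc => (hr.desc c hc).choose_spec)
      (fun c hc b hb => hr.cancel (hb.trans (hr.desc c hc).choose_spec.symm)))
  have hρL : (ρ ≫ L) ≫ π₂ = 0 := by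
    have h := hr.w =≫ α
    rw [zero_comp, Category.assoc] at h
    rw [Category.assoc, hL, ← h]
    simp [σ]
  let e₂ : Q₂ ⟶ kernel π₂ := kernel.lift π₂ ψ₂ r₂.w
  haveI : Epi e₂ := (ShortComplex.exact_iff_epi_kernel_lift _).1 hex₂
  obtain ⟨K', hK', d', _, l, hl⟩ := hS.lift (hS.biprod hK hQ₁') e₂ (kernel.lift π₂ (ρ ≫ L) hρL)
  have hl' : l ≫ ψ₂ = d' ≫ ρ ≫ L := by simpa [e₂] using hl =≫ kernel.ι π₂
  let r : K' ⟶ kernel φ := kernel.lift φ (biprod.lift (d' ≫ ρ) (-l)) (by simp [φ, hl'])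
  let s : kernel ψ₂ ⟶ kernel φ := kernel.lift φ (kernel.ι ψ₂ ≫ biprod.inr) (by simp [φ])
  obtain ⟨Qr, Pr, -, hPr, ψr, σr, rr⟩ := hker hQ₂ hP₂ ψ₂
  haveI := rr.epi
  have h₁ : Pres S (cokernel s) := pres_cokernel hS s hPr σr (hker (hS.biprod hP hQ₂) hP₂ φ)
  have h₂ : Pres S (cokernel (r ≫ cokernel.π s)) := pres_cokernel hS _ hK' (𝟙 K') h₁
  -- the map to the kernel
  have hsp : s ≫ p = 0 := by
    apply equalizer.hom_ext
    simp [s, p]
  have hrp : r ≫ p = 0 := by
    apply equalizer.hom_ext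
    simp [r, p, hr.w]
  let θ : cokernel (r ≫ cokernel.π s) ⟶ kernel α :=
    cokernel.desc _ (cokernel.desc s p hsp) (by simp [hrp])
  let q : kernel φ ⟶ cokernel (r ≫ cokernel.π s) := cokernel.π s ≫ cokernel.π (r ≫ cokernel.π s)
  have hqθ : q ≫ θ = p := by simp [q, θ]
  haveI : Epi p := by
    refine (epi_iff_surjective_up_to_refinements p).2 fun T y => ?_
    obtain ⟨T₁, c₁, _, x, hx⟩ := surjective_up_to_refinements_of_epi σ (y ≫ kernel.ι α)
    have hxπ : (x ≫ L) ≫ π₂ = 0 := by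
      rw [Category.assoc, hL, show x ≫ e ≫ π₁ ≫ α = (x ≫ σ) ≫ α by simp [σ], ← hx]
      simp
    obtain ⟨T₂, c₂, _, z, hz⟩ := hex₂.exact_up_to_refinements (x ≫ L) hxπ
    refine ⟨T₂, c₂ ≫ c₁, inferInstance, kernel.lift φ (biprod.lift (c₂ ≫ x) (-z)) ?_, ?_⟩
    · dsimp at hz
      simp [φ, hz]
    · apply equalizer.hom_ext
      simp [p, hx]
  haveI : Epi θ := epi_of_epi_fac hqθ
  haveI : Mono θ := by
    refine Preadditive.mono_of_cancel_zero θ fun {T} t ht => ?_
    haveI : Epi q := by dsimp [q]; infer_instance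
    obtain ⟨T₁, c₁, _, x, hx⟩ := surjective_up_to_refinements_of_epi q t
    have hxσ : ((x ≫ kernel.ι φ) ≫ biprod.fst) ≫ σ = 0 := by
      have h1 : x ≫ p = 0 := by rw [← hqθ, ← Category.assoc, ← hx, Category.assoc, ht, comp_zero]
      have h2 := h1 =≫ kernel.ι α
      simpa [p] using h2
    obtain ⟨T₂, c₂, _, w, hw⟩ := hexσ.exact_up_to_refinements _ hxσ
    obtain ⟨T₃, c₃, _, w', hw'⟩ := surjective_up_to_refinements_of_epi d' w
    dsimp at hw
    simp only [Category.assoc] at hw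
    let z := c₃ ≫ c₂ ≫ x ≫ kernel.ι φ - w' ≫ r ≫ kernel.ι φ
    have hz1 : z ≫ biprod.fst = 0 := by
      simp [z, r, ← reassoc_of% hw', hw]
    have hzφ : z ≫ φ = 0 := by simp [z]
    have hz2 : (z ≫ biprod.snd) ≫ ψ₂ = 0 := by
      have : z = (z ≫ biprod.snd) ≫ biprod.inr := by
        apply biprod.hom_ext
        · simp [hz1]
        · simp
      rw [this] at hzφ
      simpa [φ] using hzφ
    have hfin : c₃ ≫ c₂ ≫ x = w' ≫ r + kernel.lift ψ₂ (z ≫ biprod.snd) hz2 ≫ s := by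
      apply equalizer.hom_ext
      apply biprod.hom_ext
      · simp [s, r]
        have := hz1
        simp [z, r, sub_eq_zero] at this
        exact this
      · simp [s, r, z]
    have hzero : c₃ ≫ c₂ ≫ c₁ ≫ t = 0 := by
      rw [hx, ← Category.assoc c₂, ← Category.assoc c₃, hfin]
      simp [q, show r ≫ cokernel.π s ≫ cokernel.π (r ≫ cokernel.π s) = 0 by rw [← Category.assoc, cokernel.condition]]
    exact (cancel_epi c₁).1 ((cancel_epi c₂).1 ((cancel_epi c₃).1 (by simpa using hzero)))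
  haveI : IsIso θ := isIso_of_mono_of_epi θ
  exact pres_of_iso h₂ (asIso θ)

end Groth.Agent.QcFree
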