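import Groth.Agent.QcFree.Free

/-!
# Sections of colimits, and filtered presentations of modules
-/

set_option linter.style.haveILetI false
set_option backward.isDefEq.respectTransparency false
set_option backward.isDefEq.respectTransparency.types false

universe u

open CategoryTheory CategoryTheory.Limits Opposite
open Groth.Agent.ModTensor Groth.Agent.ModPull

noncomputable section

namespace Groth.Agent.QcFree

variable {C : Type u} [SmallCategory C] {J : GrothendieckTopology C} {O : Sheaf J CommRingCat.{u}}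

/-- The legs of a cocone. -/
abbrev leg {A : Type*} [Category A] {Λ : Type*} [Category Λ] {F : Λ ⥤ A} (c : Cocone F) (l : Λ) : F.obj l ⟶ c.pt :=
  c.ι.app l

/-- The legs of a colimit of modules over a ring jointly span. -/
theorem iSup_range_eq_top {R : Type u} [Ring R] {Λ : Type*} [Category Λ] {F : Λ ⥤ ModuleCat.{u} R} {c : Cocone F}
    (hc : IsColimit c) : ⨆ l, LinearMap.range (leg c l).hom = ⊤ := by
  have h : ModuleCat.ofHom (⨆ l, LinearMap.range (leg c l).hom).mkQ = 0 := hc.hom_ext fun l => by
    ext y
    exact (Submodule.Quotient.mk_eq_zero _).2 (Submodule.mem_iSup_of_mem l ⟨y, rfl⟩)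
  rw [← Submodule.ker_mkQ (⨆ l, LinearMap.range (leg c l).hom)]
  exact LinearMap.ker_eq_top.2 congr($(h).hom)

/-- Sections of a colimit are, locally, sums of sections from the stages. -/
theorem locally_mem_iSup {Λ : Type u} [SmallCategory Λ] {D : Λ ⥤ ModSite.Mod O} {c : Cocone D} (hc : IsColimit c)
    {W : C} (z : ((fg O).obj c.pt).obj (op W)) :
    Locally J W fun V g => rs ((fg O).obj c.pt) g.op z ∈
      ⨆ l, LinearMap.range (((fg O).map (leg c l)).app (op V)).hom := by
  let L := D ⋙ fg O
  have : PreservesColimitsOfShape Λ (sh O) := (shAdj O).leftAdjoint_preservesColimits.1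
  let e : L ⋙ sh O ≅ D :=
    Functor.associator D (fg O) (sh O) ≪≫ Functor.isoWhiskerLeft D (counitIso O) ≪≫ Functor.rightUnitor D
  let c₁ := (Cocone.precompose e.inv).obj ((sh O).mapCocone (colimit.cocone L))
  have hc₁ : IsColimit c₁ :=
    (IsColimit.precomposeInvEquiv e _).symm (isColimitOfPreserves (sh O) (colimit.isColimit L))
  let φ : c₁.pt ≅ c.pt := hc₁.coconePointUniqueUpToIso hc
  have hφ : ∀ l, (sh O).map (colimit.ι L l) ≫ φ.hom = e.hom.app l ≫ c.ι.app l := fun l => by
    have h : (e.inv.app l ≫ (sh O).map (colimit.ι L l)) ≫ φ.hom = c.ι.app l :=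
      hc₁.comp_coconePointUniqueUpToIso_hom hc l
    rw [← h]
    simp
  refine (locally_exists_shu (colimit L) (((fg O).map φ.inv).app (op W) z)).mono fun V g ⟨p, hp⟩ => ?_
  have hz : ((fg O).map φ.hom).app (op V) (shu (colimit L) p) = rs ((fg O).obj c.pt) g.op z := by
    refine (congrArg (((fg O).map φ.hom).app (op V)) hp).trans ?_
    refine (app_rs ((fg O).map φ.hom) g.op _).trans ?_
    refine congrArg (rs ((fg O).obj c.pt) g.op) ?_
    exact congr(($(((fg O).mapIso φ).inv_hom_id)).app (op W) z)
  rw [← hz]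
  have hp' : p ∈ ⨆ l, LinearMap.range (leg ((PresheafOfModules.evaluation _ (op V)).mapCocone
      (colimit.cocone L)) l).hom := by
    rw [iSup_range_eq_top (isColimitOfPreserves (PresheafOfModules.evaluation _ (op V)) (colimit.isColimit L))]
    trivial
  refine Submodule.iSup_induction _ (motive := fun p => ((fg O).map φ.hom).app (op V) (shu (colimit L) p) ∈
    ⨆ l, LinearMap.range (((fg O).map (leg c l)).app (op V)).hom) hp' ?_ ?_ ?_
  · rintro l _ ⟨y, rfl⟩
    refine Submodule.mem_iSup_of_mem l ⟨((fg O).map (e.hom.app l)).app (op V) (shu (L.obj l) y), ?_⟩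
    refine Eq.trans ?_ (congrArg (((fg O).map φ.hom).app (op V)) (shu_naturality (colimit.ι L l) y))
    exact (congr(((fg O).map $(hφ l)).app (op V) (shu (L.obj l) y))).symm
  · rw [shu_zero, map_zero]
    exact zero_mem _
  · intro a b ha hb
    rw [shu_add, map_add]
    exact add_mem ha hb

/-- Sections of a filtered colimit come, locally, from one stage. -/
theorem locally_exists_stage {Λ : Type u} [SmallCategory Λ] [IsFiltered Λ] {D : Λ ⥤ ModSite.Mod O} {c : Cocone D}
    (hc : IsColimit c) {W : C} (z : ((fg O).obj c.pt).obj (op W)) :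
    Locally J W fun V g => ∃ (l : Λ) (y : ((fg O).obj (D.obj l)).obj (op V)),
      ((fg O).map (leg c l)).app (op V) y = rs ((fg O).obj c.pt) g.op z := by
  refine (locally_mem_iSup hc z).mono fun V g h => ?_
  have hle : ∀ {l m : Λ} (f : l ⟶ m), LinearMap.range (((fg O).map (leg c l)).app (op V)).hom ≤
      LinearMap.range (((fg O).map (leg c m)).app (op V)).hom := by
    rintro l m f _ ⟨y, rfl⟩
    exact ⟨((fg O).map (D.map f)).app (op V) y, congr(((fg O).map $(c.w f)).app (op V) y)⟩
  have := IsFiltered.nonempty (C := Λ)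
  obtain ⟨l, y, hy⟩ := (Submodule.mem_iSup_of_directed _ fun l m =>
    ⟨IsFiltered.max l m, hle (IsFiltered.leftToMax l m), hle (IsFiltered.rightToMax l m)⟩).1 h
  exact ⟨l, y, hy⟩

/-- Morphisms of sheaves of modules agreeing on sections are equal. -/
theorem hom_ext_app {M N : ModSite.Mod O} {a b : M ⟶ N}
    (h : ∀ (W : C) (x : ((fg O).obj M).obj (op W)), ((fg O).map a).app (op W) x = ((fg O).map b).app (op W) x) :
    a = b :=
  (fg O).map_injective (PresheafOfModules.hom_ext fun W => ModuleCat.hom_ext (LinearMap.ext fun x => h W.unop x))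

theorem secHom_zero (U : C) (M : ModSite.Mod O) : secHom O (0 : ((fg O).obj M).obj (op U)) = 0 := by
  have h := secHom_comp (gen O U) (0 : ModSite.freeOn O U ⟶ M)
  rw [comp_zero] at h
  rw [h]
  congr 1

end Groth.Agent.QcFree
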