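import Groth.Agent.QcFree.ColimSections
import Mathlib.Algebra.Category.Grp.Colimits
import Mathlib.Algebra.BigOperators.Finprod

/-!
# Functors commuting with coproducts, and sections over quasi-compact objects
-/

set_option linter.style.haveILetI false
set_option backward.isDefEq.respectTransparency false
set_option backward.isDefEq.respectTransparency.types false

universe u v w

open CategoryTheory CategoryTheory.Limits Opposite
open Groth.Agent.ModTensor Groth.Agent.ModPull

noncomputable section

namespace Groth.Agent.QcFree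

section Gen

variable {A : Type v} [Category.{w} A] [Preadditive A] {ι : Type u}

open scoped Classical in
/-- The projection to a component of a coproduct. -/
def proj (F : ι → A) [HasCoproduct F] (i : ι) : ∐ F ⟶ F i :=
  Sigma.desc fun j => if h : j = i then eqToHom (congrArg F h) else 0

theorem ι_proj_self (F : ι → A) [HasCoproduct F] (i : ι) : Sigma.ι F i ≫ proj F i = 𝟙 _ := by
  simp [proj]

theorem ι_proj_ne (F : ι → A) [HasCoproduct F] {i j : ι} (h : j ≠ i) : Sigma.ι F j ≫ proj F i = 0 := by
  simp [proj, h]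

/-- The idempotent of a finite set of components. -/
def trunc (F : ι → A) [HasCoproduct F] (T : Finset ι) : ∐ F ⟶ ∐ F :=
  ∑ i ∈ T, proj F i ≫ Sigma.ι F i

theorem ι_trunc (F : ι → A) [HasCoproduct F] {T : Finset ι} {j : ι} (hj : j ∈ T) :
    Sigma.ι F j ≫ trunc F T = Sigma.ι F j := by
  rw [trunc, Preadditive.comp_sum, Finset.sum_eq_single j, ← Category.assoc, ι_proj_self, Category.id_comp]
  · intro i _ hi
    rw [← Category.assoc, ι_proj_ne F (Ne.symm hi), zero_comp]
  · exact fun h => absurd hj h

theorem trunc_proj (F : ι → A) [HasCoproduct F] {T : Finset ι} {j : ι} (hj : j ∉ T) :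
    trunc F T ≫ proj F j = 0 := by
  rw [trunc, Preadditive.sum_comp]
  refine Finset.sum_eq_zero fun i hi => ?_
  rw [Category.assoc, ι_proj_ne F (show i ≠ j by rintro rfl; exact hj hi), comp_zero]

/-- An additive functor to abelian groups commutes with coproducts as soon as every element of the value on a
coproduct is fixed by a finite truncation. -/
theorem preservesCoproducts_of_trunc [HasCoproductsOfShape ι A] (G : A ⥤ AddCommGrpCat.{u}) [G.Additive]
    (h : ∀ (F : ι → A) (x : G.obj (∐ F)), ∃ T : Finset ι, G.map (trunc F T) x = x) :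
    PreservesColimitsOfShape (Discrete ι) G := by
  classical
  refine ⟨fun {K} => ?_⟩
  suffices ∀ F : ι → A, PreservesColimit (Discrete.functor F) G from
    haveI := this fun i => K.obj ⟨i⟩
    preservesColimit_of_iso_diagram G Discrete.natIsoFunctor.symm
  intro F
  refine preservesColimit_of_preserves_colimit_cocone (coproductIsCoproduct F)
    ((isColimitMapCoconeCofanMkEquiv G F _).symm ?_)
  have hfin : ∀ x : G.obj (∐ F), ∃ T : Finset ι, G.map (trunc F T) x = x ∧ ∀ j ∉ T, G.map (proj F j) x = 0 := fun x => by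
    obtain ⟨T, hT⟩ := h F x
    refine ⟨T, hT, fun j hj => ?_⟩
    have e : G.map (trunc F T ≫ proj F j) x = G.map (proj F j) x := by
      rw [G.map_comp]
      exact congrArg (G.map (proj F j)) hT
    rw [← e, trunc_proj F hj, G.map_zero]
    rfl
  have hsupp : ∀ (s : Cofan fun i => G.obj (F i)) (x : G.obj (∐ F)),
      (Function.support fun i => s.inj i (G.map (proj F i) x)).Finite := fun s x => by
    obtain ⟨T, -, hT⟩ := hfin x
    refine T.finite_toSet.subset fun i hi => by_contra fun hn => hi ?_
    simp [hT i hn]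
  refine Cofan.IsColimit.mk _ (fun s => AddCommGrpCat.ofHom
    { toFun := fun x => ∑ᶠ i, s.inj i (G.map (proj F i) x)
      map_zero' := by simp
      map_add' := fun x y => by
        rw [← finsum_add_distrib (hsupp s x) (hsupp s y)]
        simp }) (fun s j => ?_) (fun s m hm => ?_)
  · ext y
    show ∑ᶠ i, s.inj i (G.map (proj F i) (G.map (Sigma.ι F j) y)) = s.inj j y
    have e : ∀ i, G.map (proj F i) (G.map (Sigma.ι F j) y) = G.map (Sigma.ι F j ≫ proj F i) y := fun i => by
      rw [G.map_comp]
      rfl
    simp only [e]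
    rw [finsum_eq_single _ j fun i hi => by rw [ι_proj_ne F (Ne.symm hi), G.map_zero]; exact map_zero _]
    rw [ι_proj_self, G.map_id]
    rfl
  · ext x
    show m x = ∑ᶠ i, s.inj i (G.map (proj F i) x)
    obtain ⟨T, hT, hT'⟩ := hfin x
    rw [finsum_eq_sum_of_support_subset _ (s := T) fun i hi => by_contra fun hn => hi (by
      rw [hT' i hn, map_zero])]
    have e : G.map (trunc F T) x = ∑ i ∈ T, G.map (proj F i ≫ Sigma.ι F i) x :=
      map_sum (AddMonoidHom.mk' (fun f : ∐ F ⟶ ∐ F => G.map f x) fun a b => by rw [G.map_add]; rfl) _ T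
    conv_lhs => rw [← hT, e, map_sum]
    refine Finset.sum_congr rfl fun i _ => ?_
    rw [← hm i, G.map_comp]
    rfl

end Gen

variable {C : Type u} [SmallCategory C] {J : GrothendieckTopology C} {O : Sheaf J CommRingCat.{u}}

/-- A section of a coproduct over a quasi-compact object lives in finitely many components. -/
theorem exists_trunc {U : C} (hU : CohCx.IsQcObject ((presheafToSheaf J (Type u)).obj (yoneda.obj U))) {ι : Type u}
    (F : ι → ModSite.Mod O) (x : ((fg O).obj (∐ F)).obj (op U)) :
    ∃ T : Finset ι, ((fg O).map (trunc F T)).app (op U) x = x := by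
  classical
  obtain ⟨S, hS, hS'⟩ := locally_mem_iSup (coproductIsCoproduct F) x
  obtain ⟨n, V, g, hg, hcov⟩ := exists_finite_subcover hU hS
  choose T hT using fun k => Submodule.exists_finset_of_mem_iSup _ (hS' (g k) (hg k))
  let T' : Finset ι := (Finset.univ.biUnion T).image Discrete.as
  refine ⟨T', eq_of_locally' (∐ F) ⟨_, hcov, ?_⟩⟩
  rintro W f ⟨Z, a, b, ⟨k⟩, rfl⟩
  rw [op_comp, rs_comp, rs_comp]
  refine congrArg _ ?_
  rw [← app_rs]
  have hle : ∀ l ∈ T k, LinearMap.range (((fg O).map (leg (Cofan.mk (∐ F) (Sigma.ι F)) l)).app (op (V k))).hom ≤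
      LinearMap.eqLocus (((fg O).map (trunc F T')).app (op (V k))).hom LinearMap.id := by
    rintro ⟨i⟩ hi _ ⟨y, rfl⟩
    have hiT : i ∈ T' := Finset.mem_image.2 ⟨⟨i⟩, Finset.mem_biUnion.2 ⟨k, Finset.mem_univ _, hi⟩, rfl⟩
    exact congr(((fg O).map $(ι_trunc F hiT)).app (op (V k)) y)
  exact LinearMap.mem_eqLocus.1 (iSup₂_le hle (hT k))

end Groth.Agent.QcFree
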