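import Groth.Agent.QcFree.Abstract
import Groth.Agent.ModPull.Sections
import Groth.Prelude.Def_CohCx
import Mathlib.CategoryTheory.Sites.LocallyBijective

/-!
# Finite sums of `j_{U!} O_U` over quasi-compact objects
-/

set_option linter.style.haveILetI false
set_option backward.isDefEq.respectTransparency false
set_option backward.isDefEq.respectTransparency.types false

universe u

open CategoryTheory CategoryTheory.Limits Opposite
open Groth.Agent.ModTensor Groth.Agent.ModPull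

noncomputable section

namespace Groth.Agent.QcFree

variable {C : Type u} [SmallCategory C] {J : GrothendieckTopology C}

section Cover

/-- A covering sieve of a quasi-compact object has finitely many members which already cover. -/
theorem exists_finite_subcover {U : C} (hU : CohCx.IsQcObject ((presheafToSheaf J (Type u)).obj (yoneda.obj U)))
    {S : Sieve U} (hS : S ∈ J U) :
    ∃ (n : ℕ) (V : Fin n → C) (g : ∀ k, V k ⟶ U), (∀ k, S (g k)) ∧ Sieve.ofArrows V g ∈ J U := by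
  classical
  let η : ∀ W : C, yoneda.obj W ⟶ ((presheafToSheaf J (Type u)).obj (yoneda.obj W)).obj :=
    fun W => toSheafify J (yoneda.obj W)
  let I := Σ V : C, {g : V ⟶ U // S g}
  let L : I → Sheaf J (Type u) := fun i => (presheafToSheaf J (Type u)).obj (yoneda.obj i.1)
  let f : ∀ i, L i ⟶ (presheafToSheaf J (Type u)).obj (yoneda.obj U) := fun i =>
    (presheafToSheaf J (Type u)).map (yoneda.map i.2.1)
  have hη : ∀ (i : I) (W : C) (a : W ⟶ i.1), (f i).hom.app (op W) ((η i.1).app (op W) a) = (η U).app (op W) (a ≫ i.2.1) :=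
    fun i W a => (congr($(toSheafify_naturality (J := J) (D := Type u) (yoneda.map i.2.1)).app (op W) a)).symm
  obtain ⟨t, ht⟩ := hU I L f fun W s => by
    refine ⟨_, J.bind_covering (Presheaf.imageSieve_mem J (η U) (U := op W) s)
      (R := fun (V : C) (g : V ⟶ W) (hg : Presheaf.imageSieve (η U) (U := op W |>.unop) s g) => S.pullback hg.choose)
      (fun V g hg => J.pullback_stable _ hS), ?_⟩
    rintro V' f' ⟨V, g', g, hg, hg', rfl⟩
    refine ⟨⟨V', g' ≫ hg.choose, hg'⟩, (η V').app (op V') (𝟙 V'), ?_⟩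
    rw [hη, Category.id_comp, op_comp, Functor.map_comp]
    refine Eq.trans ?_ (congrArg (((presheafToSheaf J (Type u)).obj (yoneda.obj U)).obj.map g'.op) hg.choose_spec)
    exact congr($((η U).naturality g'.op) hg.choose)
  refine ⟨t.card, fun k => (t.equivFin.symm k).1.1, fun k => (t.equivFin.symm k).1.2.1,
    fun k => (t.equivFin.symm k).1.2.2, ?_⟩
  set T := Sieve.ofArrows (fun k => (t.equivFin.symm k).1.1) (fun k => (t.equivFin.symm k).1.2.1)
  obtain ⟨R, hR, hR'⟩ := ht U ((η U).app (op U) (𝟙 U))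
  refine J.transitive hR _ fun V g hg => ?_
  obtain ⟨i, x, hx⟩ := hR' V g hg
  refine J.transitive (Presheaf.imageSieve_mem J (η i.1.1) (U := op V) x) _ fun V' g' hg' => ?_
  obtain ⟨a, ha⟩ := hg'
  have h1 : (η U).app (op V') (a ≫ i.1.2.1) = (η U).app (op V') (g' ≫ g) := by
    rw [← hη]
    refine ((congrArg ((f i.1).hom.app (op V')) ha).trans
      (congr($((f i.1).hom.naturality g'.op) x))).trans ?_
    refine (congrArg (((presheafToSheaf J (Type u)).obj (yoneda.obj U)).obj.map g'.op) hx).trans ?_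
    have h2 := congr($((η U).naturality (g' ≫ g).op) (𝟙 U))
    rw [op_comp, Functor.map_comp, Functor.map_comp] at h2
    refine h2.symm.trans (congrArg ((η U).app (op V')) ?_)
    show g' ≫ g ≫ 𝟙 U = g' ≫ g
    rw [Category.comp_id]
  refine J.transitive (Presheaf.equalizerSieve_mem J (η U) (X := op V') _ _ h1) _ fun V'' g'' hg'' => ?_
  refine J.covering_of_eq_top (Sieve.id_mem_iff_eq_top.1 ?_)
  show T (((𝟙 V'' ≫ g'') ≫ g') ≫ g)
  have h3 : g'' ≫ a ≫ i.1.2.1 = g'' ≫ g' ≫ g := hg''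
  rw [Category.id_comp, Category.assoc, ← h3]
  obtain ⟨k, rfl⟩ := t.equivFin.symm.surjective i
  exact T.downward_closed (T.downward_closed (Sieve.ofArrows_mk _ _ k) a) g''

/-- Covering sieves of quasi-compact objects contain finite coverings by members of the base. -/
theorem exists_finite_cover_mem (B : Set C)
    (hB₁ : ∀ X : C, ∃ (κ : Type u) (Y : κ → C) (g : ∀ k, Y k ⟶ X), Sieve.ofArrows Y g ∈ J X ∧ ∀ k, Y k ∈ B)
    {U : C} (hU : CohCx.IsQcObject ((presheafToSheaf J (Type u)).obj (yoneda.obj U))) {S : Sieve U} (hS : S ∈ J U) :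
    ∃ (n : ℕ) (V : Fin n → C) (g : ∀ k, V k ⟶ U), (∀ k, V k ∈ B) ∧ (∀ k, S (g k)) ∧ Sieve.ofArrows V g ∈ J U := by
  choose κ Ys ys hy hY using hB₁
  let R : Sieve U :=
    { arrows := fun V f => ∃ (W : C) (g : W ⟶ U), W ∈ B ∧ S g ∧ ∃ a : V ⟶ W, a ≫ g = f
      downward_closed := by
        rintro V V' f ⟨W, g, hW, hg, a, rfl⟩ b
        exact ⟨W, g, hW, hg, b ≫ a, Category.assoc _ _ _⟩ }
  have hR : R ∈ J U := by
    refine J.transitive hS _ fun V f hf => ?_
    refine J.superset_covering ?_ (hy V)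
    rintro W g ⟨Z, a, b, ⟨k⟩, rfl⟩
    exact ⟨Ys V k, ys V k ≫ f, hY V k, S.downward_closed hf _, a, (Category.assoc _ _ _).symm⟩
  obtain ⟨n, V, g, hg, hcov⟩ := exists_finite_subcover hU hR
  choose W w hW hw a ha using hg
  refine ⟨n, W, w, hW, hw, J.superset_covering ?_ hcov⟩
  rintro Z f ⟨_, b, c, ⟨k⟩, rfl⟩
  rw [← ha k, ← Category.assoc]
  exact Sieve.downward_closed _ (Sieve.ofArrows_mk W w k) _

end Cover

variable (O : Sheaf J CommRingCat.{u})

/-- The map out of `j_{U!} O_U` given by a section. -/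
def secHom {U : C} {M : ModSite.Mod O} (x : ((fg O).obj M).obj (op U)) : ModSite.freeOn O U ⟶ M :=
  (freeOnCorepr O U).homEquiv.symm x

/-- The generating section. -/
def gen (U : C) : ((fg O).obj (ModSite.freeOn O U)).obj (op U) := (freeOnCorepr O U).homEquiv (𝟙 _)

/-- The map induced by a morphism of the site. -/
def fr {V U : C} (g : V ⟶ U) : ModSite.freeOn O V ⟶ ModSite.freeOn O U :=
  secHom O (rs ((fg O).obj (ModSite.freeOn O U)) g.op (gen O U))

variable {O}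

theorem secHom_comp {U : C} {M N : ModSite.Mod O} (x : ((fg O).obj M).obj (op U)) (φ : M ⟶ N) :
    secHom O x ≫ φ = secHom O (((fg O).map φ).app (op U) x) :=
  freeOnCorepr_symm_comp x φ

theorem secHom_injective {U : C} {M : ModSite.Mod O} :
    Function.Injective (secHom O : ((fg O).obj M).obj (op U) → _) :=
  (freeOnCorepr O U).homEquiv.symm.injective

theorem exists_secHom {U : C} {M : ModSite.Mod O} (φ : ModSite.freeOn O U ⟶ M) : ∃ x, secHom O x = φ :=
  ⟨_, (freeOnCorepr O U).homEquiv.symm_apply_apply φ⟩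

theorem secHom_gen (U : C) : secHom O (gen O U) = 𝟙 _ := (freeOnCorepr O U).homEquiv.symm_apply_apply _

theorem fr_secHom {V U : C} (g : V ⟶ U) {M : ModSite.Mod O} (x : ((fg O).obj M).obj (op U)) :
    fr O g ≫ secHom O x = secHom O (rs ((fg O).obj M) g.op x) := by
  rw [fr, secHom_comp, app_rs ((fg O).map (secHom O x)) g.op]
  have h := (secHom_comp (gen O U) (secHom O x)).symm
  rw [secHom_gen, Category.id_comp] at h
  rw [secHom_injective h]

theorem fr_comp {W V U : C} (h : W ⟶ V) (g : V ⟶ U) : fr O h ≫ fr O g = fr O (h ≫ g) := by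
  rw [fr.eq_def (g := g), fr_secHom, fr.eq_def (g := h ≫ g), op_comp, rs_comp]

/-- Maps out of `j_{U!} O_U` agreeing on a covering agree. -/
theorem hom_ext_cover {U : C} {ι : Type*} (V : ι → C) (g : ∀ k, V k ⟶ U) (hg : Sieve.ofArrows V g ∈ J U)
    {M : ModSite.Mod O} {a b : ModSite.freeOn O U ⟶ M} (h : ∀ k, fr O (g k) ≫ a = fr O (g k) ≫ b) : a = b := by
  obtain ⟨x, rfl⟩ := exists_secHom a
  obtain ⟨y, rfl⟩ := exists_secHom b
  congr 1
  refine eq_of_locally' M ⟨_, hg, ?_⟩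
  rintro W f ⟨Z, c, d, ⟨k⟩, rfl⟩
  have hk := h k
  rw [fr_secHom, fr_secHom] at hk
  rw [op_comp, rs_comp, rs_comp, secHom_injective hk]

/-- Compatible sections on a covering glue. -/
theorem exists_glue {U : C} {ι : Type u} (V : ι → C) (g : ∀ k, V k ⟶ U) (hg : Sieve.ofArrows V g ∈ J U)
    {M : ModSite.Mod O} (x : ∀ k, ((fg O).obj M).obj (op (V k)))
    (h : ∀ (a b : ι) (Z : C) (p : Z ⟶ V a) (q : Z ⟶ V b), p ≫ g a = q ≫ g b →
      rs ((fg O).obj M) p.op (x a) = rs ((fg O).obj M) q.op (x b)) :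
    ∃ y : ((fg O).obj M).obj (op U), ∀ k, rs ((fg O).obj M) (g k).op y = x k := by
  have hs : Presieve.IsSheaf J (M.val.presheaf ⋙ CategoryTheory.forget AddCommGrpCat.{u}) :=
    (isSheaf_iff_isSheaf_of_type J _).1
      ((Presheaf.isSheaf_iff_isSheaf_forget J M.val.presheaf (CategoryTheory.forget AddCommGrpCat.{u})).1 M.isSheaf)
  have h1 := (Presieve.isSheafFor_iff_generate _).2 (hs _ hg)
  obtain ⟨y, hy, -⟩ := (Presieve.isSheafFor_arrows_iff _ _).1 h1 x h
  exact ⟨y, hy⟩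

variable (O) in
/-- Finite sums over the base. -/
def Sums (B : Set C) (X : ModSite.Mod O) : Prop :=
  ∃ (n : ℕ) (U : Fin n → C), (∀ i, U i ∈ B) ∧ Nonempty (X ≅ ∐ fun i => ModSite.freeOn O (U i))

theorem sums_of_finite (B : Set C) {ι : Type*} [Finite ι] (U : ι → C) (hU : ∀ i, U i ∈ B) {X : ModSite.Mod O}
    [HasCoproduct fun i => ModSite.freeOn O (U i)] (e : X ≅ ∐ fun i => ModSite.freeOn O (U i)) : Sums O B X := by
  obtain ⟨n, ⟨f⟩⟩ := Finite.exists_equiv_fin ι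
  exact ⟨n, fun i => U (f.symm i), fun i => hU _,
    ⟨e ≪≫ (Sigma.whiskerEquiv (f := fun i => ModSite.freeOn O (U (f.symm i))) (g := fun i => ModSite.freeOn O (U i)) f.symm (fun _ => Iso.refl _) :
      (∐ fun i : Fin n => ModSite.freeOn O (U (f.symm i))) ≅ ∐ fun i => ModSite.freeOn O (U i)).symm⟩⟩

variable (B : Set C)
  (hB₁ : ∀ X : C, ∃ (κ : Type u) (Y : κ → C) (g : ∀ k, Y k ⟶ X), Sieve.ofArrows Y g ∈ J X ∧ ∀ k, Y k ∈ B)
  (hB₂ : ∀ U ∈ B, CohCx.IsQcObject ((presheafToSheaf J (Type u)).obj (yoneda.obj U)))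

include hB₁ hB₂

/-- Lifting along an epimorphism after refining. -/
theorem exists_lift {n : ℕ} (U : Fin n → C) (hU : ∀ i, U i ∈ B) {M N : ModSite.Mod O} (φ : M ⟶ N) [Epi φ]
    (f : (∐ fun i => ModSite.freeOn O (U i)) ⟶ N) :
    ∃ (m : Fin n → ℕ) (V : ∀ i, Fin (m i) → C) (g : ∀ i k, V i k ⟶ U i)
      (l : ∀ i k, ModSite.freeOn O (V i k) ⟶ M),
      (∀ i k, V i k ∈ B) ∧ (∀ i, Sieve.ofArrows (V i) (g i) ∈ J (U i)) ∧
        ∀ i k, l i k ≫ φ = fr O (g i k) ≫ Sigma.ι (fun i => ModSite.freeOn O (U i)) i ≫ f := by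
  choose x hx using fun i => exists_secHom (Sigma.ι (fun i => ModSite.freeOn O (U i)) i ≫ f)
  choose S hS hS' using fun i => locally_exists_app_eq φ (x i)
  choose m V g hV hg hcov using fun i => exists_finite_cover_mem B hB₁ (hB₂ _ (hU i)) (hS i)
  choose y hy using fun i k => hS' i (g i k) (hg i k)
  exact ⟨m, V, g, fun i k => secHom O (y i k), hV, hcov, fun i k => by rw [secHom_comp, hy, ← fr_secHom, hx]⟩

theorem lifts : Lifts (Sums O B) where
  zero hX := ⟨0, Fin.elim0, fun i => i.elim0,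
    ⟨{ hom := hX.to_ _
       inv := Sigma.desc fun i => i.elim0
       hom_inv_id := hX.eq_of_src _ _
       inv_hom_id := Sigma.hom_ext _ _ fun i => i.elim0 }⟩⟩
  biprod := by
    rintro X Y ⟨n, U, hU, ⟨e⟩⟩ ⟨m, V, hV, ⟨e'⟩⟩
    refine sums_of_finite B (Sum.elim U V) (by rintro (i | i); exacts [hU i, hV i])
      (biprod.mapIso e e' ≪≫ ?_)
    exact
      { hom := biprod.desc (Sigma.desc fun i => Sigma.ι (fun s => ModSite.freeOn O (Sum.elim U V s)) (Sum.inl i))
          (Sigma.desc fun i => Sigma.ι (fun s => ModSite.freeOn O (Sum.elim U V s)) (Sum.inr i))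
        inv := Sigma.desc fun s => match s with
          | Sum.inl i => Sigma.ι (fun i => ModSite.freeOn O (U i)) i ≫ biprod.inl
          | Sum.inr i => Sigma.ι (fun i => ModSite.freeOn O (V i)) i ≫ biprod.inr
        hom_inv_id := by
          apply biprod.hom_ext' <;> · apply Sigma.hom_ext; intro i; simp
        inv_hom_id := Sigma.hom_ext _ _ (by rintro (i | i) <;> simp) }
  lift := by
    rintro P M N ⟨n, U, hU, ⟨eP⟩⟩ φ _ f
    obtain ⟨m, V, g, l, hV, hcov, hl⟩ := exists_lift B hB₁ hB₂ U hU φ (eP.inv ≫ f)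
    let e : (∐ fun s : (Σ i, Fin (m i)) => ModSite.freeOn O (V s.1 s.2)) ⟶ P :=
      Sigma.desc (fun s => fr O (g s.1 s.2) ≫ Sigma.ι (fun i => ModSite.freeOn O (U i)) s.1) ≫ eP.inv
    have he : Epi (Sigma.desc fun s : (Σ i, Fin (m i)) => fr O (g s.1 s.2) ≫ Sigma.ι (fun i => ModSite.freeOn O (U i)) s.1) := by
      refine ⟨fun a b h => Sigma.hom_ext _ _ fun i => hom_ext_cover (V i) (g i) (hcov i) fun k => ?_⟩
      have := Sigma.ι (fun s : (Σ i, Fin (m i)) => ModSite.freeOn O (V s.1 s.2)) ⟨i, k⟩ ≫= h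
      simpa using this
    refine ⟨_, sums_of_finite B (fun s : (Σ i, Fin (m i)) => V s.1 s.2) (fun s => hV _ _) (Iso.refl _), e,
      by dsimp [e]; infer_instance, Sigma.desc fun s => l s.1 s.2, Sigma.hom_ext _ _ fun s => ?_⟩
    simp [e, hl]

theorem liftsPlus [HasPullbacks C]
    (hB₃ : ∀ (U U₁ U₂ : C) (f₁ : U₁ ⟶ U) (f₂ : U₂ ⟶ U), U ∈ B → U₁ ∈ B → U₂ ∈ B →
      CohCx.IsQcObject ((presheafToSheaf J (Type u)).obj (yoneda.obj (pullback f₁ f₂)))) :
    LiftsPlus (Sums O B) := by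
  rintro P M N ⟨n, U, hU, ⟨eP⟩⟩ φ _ f
  obtain ⟨m, V, g, l, hV, hcov, hl⟩ := exists_lift B hB₁ hB₂ U hU φ (eP.inv ≫ f)
  let ι := Σ i, Fin (m i)
  let X : ι → ModSite.Mod O := fun s => ModSite.freeOn O (V s.1 s.2)
  let e : ∐ X ⟶ ∐ fun i => ModSite.freeOn O (U i) :=
    Sigma.desc fun s => fr O (g s.1 s.2) ≫ Sigma.ι (fun i => ModSite.freeOn O (U i)) s.1
  choose r W w hW _ hwcov using fun (i : Fin n) (a b : Fin (m i)) =>
    exists_finite_cover_mem B hB₁ (hB₃ _ _ _ (g i a) (g i b) (hU i) (hV i a) (hV i b)) (J.top_mem _)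
  let κ := Σ i : Fin n, Σ a : Fin (m i), Σ b : Fin (m i), Fin (r i a b)
  let χ : (∐ fun s : κ => ModSite.freeOn O (W s.1 s.2.1 s.2.2.1 s.2.2.2)) ⟶ ∐ X := Sigma.desc fun s =>
    fr O (w s.1 s.2.1 s.2.2.1 s.2.2.2 ≫ pullback.fst _ _) ≫ Sigma.ι X ⟨s.1, s.2.1⟩ -
      fr O (w s.1 s.2.1 s.2.2.1 s.2.2.2 ≫ pullback.snd _ _) ≫ Sigma.ι X ⟨s.1, s.2.2.1⟩
  refine ⟨_, _, sums_of_finite B (fun s : ι => V s.1 s.2) (fun s => hV _ _) (Iso.refl _),
    sums_of_finite B (fun s : κ => W s.1 s.2.1 s.2.2.1 s.2.2.2) (fun s => hW _ _ _ _) (Iso.refl _),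
    χ, e ≫ eP.inv, Sigma.desc fun s => l s.1 s.2, RightExact.of_iso (X := ∐ fun i => ModSite.freeOn O (U i)) ?_ eP.symm,
    Sigma.hom_ext _ _ fun s => by simp [e, X, hl]⟩
  refine ⟨Sigma.hom_ext _ _ fun s => ?_, fun {T} c hc => ?_, ⟨fun a b h => Sigma.hom_ext _ _ fun i =>
    hom_ext_cover (V i) (g i) (hcov i) fun k => ?_⟩⟩
  · simp [χ, e, X, reassoc_of% fr_comp, pullback.condition]
  · have hglue : ∀ i : Fin n, ∃ y : ((fg O).obj T).obj (op (U i)),
        ∀ k, fr O (g i k) ≫ secHom O y = Sigma.ι X ⟨i, k⟩ ≫ c := fun i => by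
      choose x hx using fun k => exists_secHom (Sigma.ι X ⟨i, k⟩ ≫ c)
      refine (exists_glue (fun k : ULift.{u} (Fin (m i)) => V i k.down) (fun k => g i k.down)
        (J.superset_covering (by
          rintro Z f ⟨_, p, q, ⟨k⟩, rfl⟩
          exact Sieve.downward_closed _ (Sieve.ofArrows_mk (fun k : ULift.{u} (Fin (m i)) => V i k.down)
            (fun k => g i k.down) ⟨k⟩) p) (hcov i))
        (fun k => x k.down) ?_).imp fun y hy k => by rw [fr_secHom, hy ⟨k⟩, hx]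
      rintro ⟨a⟩ ⟨b⟩ Z p q hpq
      have hpb : rs ((fg O).obj T) (pullback.fst (g i a) (g i b)).op (x a) =
          rs ((fg O).obj T) (pullback.snd (g i a) (g i b)).op (x b) := by
        apply secHom_injective
        refine hom_ext_cover (W i a b) (w i a b) (hwcov i a b) fun k => ?_
        rw [← fr_secHom, ← fr_secHom, ← Category.assoc, ← Category.assoc, fr_comp, fr_comp, hx, hx]
        have := Sigma.ι (fun s : κ => ModSite.freeOn O (W s.1 s.2.1 s.2.2.1 s.2.2.2)) ⟨i, a, b, k⟩ ≫= hc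
        rw [comp_zero] at this
        simpa [χ, sub_eq_zero] using this
      show rs ((fg O).obj T) p.op (x a) = rs ((fg O).obj T) q.op (x b)
      rw [← pullback.lift_fst p q hpq, op_comp, rs_comp, hpb, ← rs_comp, ← op_comp, pullback.lift_snd]
    choose y hy using hglue
    exact ⟨Sigma.desc fun i => secHom O (y i), Sigma.hom_ext _ _ fun ⟨i, k⟩ => by
      simp [e, hy, X]⟩
  · have := Sigma.ι X ⟨i, k⟩ ≫= h
    simpa [e, X] using this

omit hB₁ hB₂ in
/-- The predicate of the statements. -/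
theorem pres_iff (F : ModSite.Mod O) : Pres (Sums O B) F ↔
    ∃ (m' n' : ℕ) (V' : Fin m' → C) (U' : Fin n' → C)
      (ψ : (∐ fun j => ModSite.freeOn O (V' j)) ⟶ ∐ fun i => ModSite.freeOn O (U' i)),
      (∀ j, V' j ∈ B) ∧ (∀ i, U' i ∈ B) ∧ Nonempty (F ≅ cokernel ψ) := by
  constructor
  · rintro ⟨Q, P, ⟨m, V, hV, ⟨eQ⟩⟩, ⟨n, U, hU, ⟨eP⟩⟩, ψ, π, h⟩
    refine ⟨m, n, V, U, eQ.inv ≫ ψ ≫ eP.hom, hV, hU, ?_⟩
    obtain ⟨i⟩ := h.nonempty_iso
    exact ⟨i ≪≫ cokernel.mapIso ψ (eQ.inv ≫ ψ ≫ eP.hom) eQ eP (by simp)⟩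
  · rintro ⟨m, n, V, U, ψ, hV, hU, ⟨e⟩⟩
    exact pres_of_iso ⟨_, _, ⟨m, V, hV, ⟨Iso.refl _⟩⟩, ⟨n, U, hU, ⟨Iso.refl _⟩⟩, ψ, cokernel.π ψ,
      RightExact.of_cokernel ψ⟩ e.symm

end Groth.Agent.QcFree
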