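import Groth.Agent.QcFree.ColimSections
import Mathlib.CategoryTheory.Filtered.Basic
import Mathlib.CategoryTheory.Comma.Over.Basic
import Mathlib.CategoryTheory.InducedCategory

/-!
# A module is the filtered colimit of the finitely presented modules mapping to it
-/

set_option linter.style.haveILetI false
set_option backward.isDefEq.respectTransparency false
set_option backward.isDefEq.respectTransparency.types false

universe u

open CategoryTheory CategoryTheory.Limits Opposite
open Groth.Agent.ModTensor Groth.Agent.ModPull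

noncomputable section

namespace Groth.Agent.QcFree

theorem pres_biprod {A : Type*} [Category A] [Abelian A] {S : A → Prop} (hS : Lifts S) {X Y : A}
    (hX : Pres S X) (hY : Pres S Y) : Pres S (X ⊞ Y) := by
  obtain ⟨Q, P, hQ, hP, ψ, π, h⟩ := hX
  obtain ⟨Q', P', hQ', hP', ψ', π', h'⟩ := hY
  haveI := h.epi
  haveI := h'.epi
  refine ⟨_, _, hS.biprod hQ hQ', hS.biprod hP hP', biprod.map ψ ψ', biprod.map π π', ?_, fun {N} c hc => ?_, ?_⟩
  · apply biprod.hom_ext' <;> simp [reassoc_of% h.w, reassoc_of% h'.w]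
  · obtain ⟨a, ha⟩ := h.desc (biprod.inl ≫ c) (by simpa using biprod.inl ≫= hc)
    obtain ⟨b, hb⟩ := h'.desc (biprod.inr ≫ c) (by simpa using biprod.inr ≫= hc)
    exact ⟨biprod.desc a b, biprod.hom_ext' _ _ (by simpa using ha) (by simpa using hb)⟩
  · refine ⟨fun a b e => biprod.hom_ext' _ _ ?_ ?_⟩
    · exact (cancel_epi π).1 (by simpa using biprod.inl ≫= e)
    · exact (cancel_epi π').1 (by simpa using biprod.inr ≫= e)

variable {C : Type u} [SmallCategory C] {J : GrothendieckTopology C} {O : Sheaf J CommRingCat.{u}}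

/-- A finitely presented module over the base, mapping to a given one. -/
structure Stage (B : Set C) (F : ModSite.Mod O) : Type u where
  m : ℕ
  n : ℕ
  V : Fin m → C
  U : Fin n → C
  hV : ∀ j, V j ∈ B
  hU : ∀ i, U i ∈ B
  ψ : (∐ fun j => ModSite.freeOn O (V j)) ⟶ ∐ fun i => ModSite.freeOn O (U i)
  a : cokernel ψ ⟶ F

variable (B : Set C) (F : ModSite.Mod O)

/-- The underlying object over `F`. -/
def Stage.over (s : Stage B F) : Over F := Over.mk s.a

/-- The category of stages. -/
abbrev StageCat : Type u := InducedCategory (Over F) (Stage.over B F)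

/-- The diagram of stages. -/
def stageFunctor : StageCat B F ⥤ ModSite.Mod O := inducedFunctor _ ⋙ Over.forget F

/-- The canonical cocone. -/
def stageCocone : Cocone (stageFunctor B F) :=
  Cocone.mk F
    { app := fun s => (Stage.over B F s).hom
      naturality := fun _ _ f => (Over.w ((inducedFunctor (Stage.over B F)).map f)).trans (Category.comp_id _).symm }

theorem exists_stage {X : ModSite.Mod O} (hX : Pres (Sums O B) X) (a : X ⟶ F) :
    ∃ s : StageCat B F, Nonempty (Over.mk a ≅ Stage.over B F s) := by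
  obtain ⟨m, n, V, U, ψ, hV, hU, ⟨e⟩⟩ := (pres_iff B X).1 hX
  exact ⟨⟨m, n, V, U, hV, hU, ψ, e.inv ≫ a⟩, ⟨Over.isoMk e (by simp [Stage.over])⟩⟩

theorem pres_stage (s : StageCat B F) : Pres (Sums O B) ((stageFunctor B F).obj s) :=
  (pres_iff B _).2 ⟨s.m, s.n, s.V, s.U, s.ψ, s.hV, s.hU, ⟨Iso.refl _⟩⟩

theorem sums_freeOn {U : C} (hU : U ∈ B) : Sums O B (ModSite.freeOn O U) :=
  sums_of_finite B (fun _ : PUnit.{1} => U) (fun _ => hU)
    (coproductUniqueIso (fun _ : PUnit.{1} => ModSite.freeOn O U)).symm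

variable (hB₁ : ∀ X : C, ∃ (κ : Type u) (Y : κ → C) (g : ∀ k, Y k ⟶ X), Sieve.ofArrows Y g ∈ J X ∧ ∀ k, Y k ∈ B)
  (hB₂ : ∀ U ∈ B, CohCx.IsQcObject ((presheafToSheaf J (Type u)).obj (yoneda.obj U)))

include hB₁ hB₂

theorem isFiltered_stageCat : IsFiltered (StageCat B F) where
  nonempty := by
    obtain ⟨Z, hZ⟩ := HasZeroObject.zero (C := ModSite.Mod O)
    obtain ⟨s, -⟩ := exists_stage B F (pres_of_mem (lifts B hB₁ hB₂) ((lifts B hB₁ hB₂).zero hZ)) (0 : Z ⟶ F)
    exact ⟨s⟩
  toIsFilteredOrEmpty :=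
    { cocone_objs := fun s t => by
        obtain ⟨r, ⟨e⟩⟩ := exists_stage B F (pres_biprod (lifts B hB₁ hB₂) (pres_stage B F s) (pres_stage B F t))
          (biprod.desc (Stage.over B F s).hom (Stage.over B F t).hom)
        exact ⟨r, InducedCategory.homMk (Over.homMk biprod.inl (biprod.inl_desc _ _) ≫ e.hom),
          InducedCategory.homMk (Over.homMk biprod.inr (biprod.inr_desc _ _) ≫ e.hom), trivial⟩
      cocone_maps := fun s t f g => by
        let f' : (stageFunctor B F).obj s ⟶ (stageFunctor B F).obj t := (stageFunctor B F).map f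
        let g' : (stageFunctor B F).obj s ⟶ (stageFunctor B F).obj t := (stageFunctor B F).map g
        have hw : (f' - g') ≫ (Stage.over B F t).hom = 0 := by
          rw [Preadditive.sub_comp, sub_eq_zero]
          exact (Over.w ((inducedFunctor (Stage.over B F)).map f)).trans
            (Over.w ((inducedFunctor (Stage.over B F)).map g)).symm
        obtain ⟨r, ⟨e⟩⟩ := exists_stage B F
          (pres_cokernel' (lifts B hB₁ hB₂) (f' - g') (pres_stage B F s) (pres_stage B F t))
          (cokernel.desc _ (Stage.over B F t).hom hw)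
        refine ⟨r, InducedCategory.homMk (Over.homMk (cokernel.π _) (cokernel.π_desc _ _ _) ≫ e.hom), ?_⟩
        apply InducedCategory.hom_ext
        ext : 1
        show f' ≫ cokernel.π (f' - g') ≫ e.hom.left = g' ≫ cokernel.π (f' - g') ≫ e.hom.left
        rw [← Category.assoc, ← Category.assoc]
        refine congrArg (· ≫ e.hom.left) (sub_eq_zero.1 ?_)
        rw [← Preadditive.sub_comp, cokernel.condition] }

theorem isColimit_stageCocone : Nonempty (IsColimit (stageCocone B F)) := by
  haveI := isFiltered_stageCat B F hB₁ hB₂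
  let hc := colimit.isColimit (stageFunctor B F)
  let φ : colimit (stageFunctor B F) ⟶ F := hc.desc (stageCocone B F)
  have hι : ∀ s, colimit.ι (stageFunctor B F) s ≫ φ = (Stage.over B F s).hom := fun s => hc.fac (stageCocone B F) s
  haveI : Mono φ := mono_of_app_eq_zero φ fun W x hx => by
    refine eq_of_locally' _ ((locally_exists_stage hc x).bind fun V g hg => ?_)
    obtain ⟨s, y, hy⟩ := hg
    replace hy : ((fg O).map (colimit.ι (stageFunctor B F) s)).app (op V) y =
        rs ((fg O).obj (colimit (stageFunctor B F))) g.op x := hy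
    obtain ⟨κ, Ys, b, hb, hY⟩ := hB₁ V
    refine ⟨_, hb, ?_⟩
    rintro Z f ⟨_, a, c, ⟨k⟩, rfl⟩
    rw [op_comp, rs_comp, rs_comp, op_comp, rs_comp, rs_comp, ← hy]
    refine congrArg _ ?_
    have hz : ∀ {X Ys : Cᵒᵖ} (i : X ⟶ Ys), rs ((fg O).obj (colimit (stageFunctor B F))) i 0 = 0 := fun i => map_zero _
    rw [hz, hz]
    let y' := rs ((fg O).obj ((stageFunctor B F).obj s)) (b k).op y
    have h0 : secHom O y' ≫ (Stage.over B F s).hom = 0 := by
      rw [← hι s, ← Category.assoc, secHom_comp, secHom_comp, ← secHom_zero (Ys k) F]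
      refine congrArg (secHom O) ?_
      rw [app_rs]
      refine (congrArg (fun t => ((fg O).map φ).app _ (rs _ (b k).op t)) hy).trans ?_
      rw [← rs_comp, app_rs, hx]
      exact map_zero _
    obtain ⟨r, ⟨e⟩⟩ := exists_stage B F (pres_cokernel' (lifts B hB₁ hB₂) (secHom O y')
      (pres_of_mem (lifts B hB₁ hB₂) (sums_freeOn B (hY k))) (pres_stage B F s))
      (cokernel.desc _ (Stage.over B F s).hom h0)
    let t : s ⟶ r := InducedCategory.homMk (Over.homMk (cokernel.π _) (cokernel.π_desc _ _ _) ≫ e.hom)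
    have ht : secHom O y' ≫ (stageFunctor B F).map t = 0 := by
      show secHom O y' ≫ cokernel.π (secHom O y') ≫ e.hom.left = 0
      rw [← Category.assoc, cokernel.condition, zero_comp]
    rw [← app_rs]
    apply secHom_injective
    rw [secHom_zero]
    show secHom O (((fg O).map (colimit.ι (stageFunctor B F) s)).app (op (Ys k)) y') = 0
    rw [← secHom_comp, ← colimit.w (stageFunctor B F) t, ← Category.assoc, ht, zero_comp]
  haveI : Epi φ := ⟨fun {T} a b h => hom_ext_app fun W x => by
    obtain ⟨κ, Ys, g, hg, hY⟩ := hB₁ W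
    refine eq_of_locally' _ ⟨_, hg, ?_⟩
    rintro Z f ⟨_, c, d, ⟨k⟩, rfl⟩
    rw [op_comp, rs_comp, rs_comp]
    refine congrArg _ ?_
    rw [← app_rs, ← app_rs]
    apply secHom_injective
    rw [← secHom_comp, ← secHom_comp]
    obtain ⟨r, ⟨e⟩⟩ := exists_stage B F (pres_of_mem (lifts B hB₁ hB₂) (sums_freeOn B (hY k)))
      (secHom O (rs ((fg O).obj F) (g k).op x))
    have he : e.hom.left ≫ (Stage.over B F r).hom = secHom O (rs ((fg O).obj F) (g k).op x) := Over.w e.hom
    rw [← he, ← hι r, Category.assoc, Category.assoc, Category.assoc, Category.assoc, h]⟩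
  haveI : IsIso φ := isIso_of_mono_of_epi φ
  haveI : IsIso (hc.desc (stageCocone B F)) := ‹IsIso φ›
  exact ⟨IsColimit.ofPointIso hc⟩

end Groth.Agent.QcFree
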